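import Cfsg.Agent.LThreeCo1.Ev
import Cfsg.Agent.MFive.FixN

/-!
# Explicit elements of `Co0` in the normalizer of an element of order seven (helper32)

`x0` has order 7 and no fixed points, `y0` (a permutation of coordinates) has order 7 and fixed rank 6, `t0` (a
permutation) has order 3 and fixed rank 8 and `t0 x0 t0⁻¹ = x0²`; `g0, h0` (monomial) generate a quaternion group of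
order 16 with `g0⁴ = h0² = -1`; `y0, g0, h0` commute with `x0` and `t0`; `n0 x0 n0⁻¹ = x0 y0³`.
The lists are generated by a script and checked by the kernel.
-/

set_option autoImplicit false
set_option maxRecDepth 100000

namespace Cfsg.Agent.BpSevenCo.Data

open Cfsg Cfsg.Agent.SporadicA Cfsg.Agent.SporadicStructure.Co0Matrix Cfsg.Agent.CoOneType.CoEval
open Cfsg.Agent.LThreeCo1.Ev Cfsg.Agent.MonsterU.Lam2 Cfsg.Agent.LThreeMB.Fix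
open Cfsg.Agent.LThreeMB (fr)
open Cfsg.Spor (Co1)

/-- matrix (times 8) -/
def rX : List (List ℤ) := [
  [-4, -2, -2, 0, -2, 0, 0, 0, -4, 0, -2, -2, 0, 0, 0, 0, 0, 0, -2, 0, -2, 0, -2, 0],
  [4, -2, -2, 0, -2, 0, 0, 0, 4, 0, -2, -2, 0, 0, 0, 0, 0, 0, -2, 0, -2, 0, -2, 0],
  [0, 2, -2, 4, 2, 0, 0, 0, 0, 0, -2, -2, 0, 0, 0, 0, 0, 4, 2, 0, -2, 0, 2, 0],
  [-2, 0, 0, 2, 0, -2, 2, 2, 2, 2, 0, 0, 2, 2, -2, -2, -2, -2, 0, -2, 0, 2, 0, -2],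
  [0, 2, -2, 0, -2, 0, 0, 0, 0, 0, -2, 2, 0, 4, 0, 4, 0, 0, -2, 0, 2, 0, 2, 0],
  [-2, 0, 0, 2, 0, 2, -2, 2, 2, -2, 0, 0, 2, -2, 2, 2, 2, -2, 0, -2, 0, -2, 0, -2],
  [0, 2, 2, 0, 2, 0, -4, 0, 0, 0, -2, -2, 0, 0, -4, 0, 0, 0, -2, 0, 2, 0, -2, 0],
  [-2, 0, 0, -2, 0, -2, -2, 2, 2, 2, 0, 0, -2, -2, 2, 2, -2, 2, 0, -2, 0, 2, 0, 2],
  [-2, 0, 0, -2, 0, -2, 2, -2, 2, -2, 0, 0, 2, -2, -2, 2, 2, 2, 0, 2, 0, 2, 0, -2],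
  [-2, 0, 0, -2, 0, 2, -2, -2, 2, 2, 0, 0, 2, 2, 2, -2, -2, 2, 0, 2, 0, -2, 0, -2],
  [0, 2, 2, 0, 2, 0, 4, 0, 0, 0, -2, -2, 0, 0, 4, 0, 0, 0, -2, 0, 2, 0, -2, 0],
  [0, 2, 2, 0, -2, 4, 0, 0, 0, 0, 2, -2, 0, 0, 0, 0, 0, 0, -2, 0, -2, 4, 2, 0],
  [0, 2, 2, 0, -2, 0, 0, 0, 0, 0, -2, 2, -4, 0, 0, 0, 0, 0, 2, 0, -2, 0, -2, -4],
  [-2, 0, 0, -2, 0, 2, 2, 2, 2, -2, 0, 0, -2, 2, -2, -2, 2, 2, 0, -2, 0, -2, 0, 2],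
  [-2, 0, 0, 2, 0, -2, -2, -2, 2, -2, 0, 0, -2, 2, 2, -2, 2, -2, 0, 2, 0, 2, 0, 2],
  [0, 2, -2, 0, -2, 0, 0, 0, 0, 0, -2, 2, 0, -4, 0, -4, 0, 0, -2, 0, 2, 0, 2, 0],
  [0, 2, -2, 0, 2, 0, 0, 0, 0, -4, 2, 2, 0, 0, 0, 0, -4, 0, -2, 0, -2, 0, -2, 0],
  [0, 2, -2, -4, 2, 0, 0, 0, 0, 0, -2, -2, 0, 0, 0, 0, 0, -4, 2, 0, -2, 0, 2, 0],
  [0, 2, -2, 0, 2, 0, 0, 0, 0, 4, 2, 2, 0, 0, 0, 0, 4, 0, -2, 0, -2, 0, -2, 0],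
  [0, 2, -2, 0, -2, 0, 0, -4, 0, 0, 2, -2, 0, 0, 0, 0, 0, 0, 2, -4, 2, 0, -2, 0],
  [0, 2, 2, 0, -2, 0, 0, 0, 0, 0, -2, 2, 4, 0, 0, 0, 0, 0, 2, 0, -2, 0, -2, 4],
  [0, 2, 2, 0, -2, -4, 0, 0, 0, 0, 2, -2, 0, 0, 0, 0, 0, 0, -2, 0, -2, -4, 2, 0],
  [0, 2, -2, 0, -2, 0, 0, 4, 0, 0, 2, -2, 0, 0, 0, 0, 0, 0, 2, 4, 2, 0, -2, 0],
  [-2, 0, 0, 2, 0, 2, 2, -2, 2, 2, 0, 0, -2, -2, -2, 2, -2, -2, 0, 2, 0, -2, 0, 2]]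

/-- matrix (times 8) -/
def rY : List (List ℤ) := [
  [8, 0, 0, 0, 0, 0, 0, 0, 0, 0, 0, 0, 0, 0, 0, 0, 0, 0, 0, 0, 0, 0, 0, 0],
  [0, 8, 0, 0, 0, 0, 0, 0, 0, 0, 0, 0, 0, 0, 0, 0, 0, 0, 0, 0, 0, 0, 0, 0],
  [0, 0, 0, 0, 0, 0, 0, 0, 0, 0, 0, 8, 0, 0, 0, 0, 0, 0, 0, 0, 0, 0, 0, 0],
  [0, 0, 0, 0, 0, 8, 0, 0, 0, 0, 0, 0, 0, 0, 0, 0, 0, 0, 0, 0, 0, 0, 0, 0],
  [0, 0, 0, 0, 0, 0, 0, 0, 0, 0, 8, 0, 0, 0, 0, 0, 0, 0, 0, 0, 0, 0, 0, 0],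
  [0, 0, 0, 0, 0, 0, 0, 0, 0, 0, 0, 0, 0, 0, 0, 0, 0, 0, 0, 0, 0, 0, 0, 8],
  [0, 0, 0, 0, 0, 0, 0, 0, 0, 0, 0, 0, 0, 0, 0, 0, 8, 0, 0, 0, 0, 0, 0, 0],
  [0, 0, 0, 8, 0, 0, 0, 0, 0, 0, 0, 0, 0, 0, 0, 0, 0, 0, 0, 0, 0, 0, 0, 0],
  [0, 0, 0, 0, 0, 0, 0, 0, 8, 0, 0, 0, 0, 0, 0, 0, 0, 0, 0, 0, 0, 0, 0, 0],
  [0, 0, 0, 0, 0, 0, 0, 8, 0, 0, 0, 0, 0, 0, 0, 0, 0, 0, 0, 0, 0, 0, 0, 0],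
  [0, 0, 0, 0, 0, 0, 0, 0, 0, 0, 0, 0, 0, 0, 0, 0, 0, 0, 8, 0, 0, 0, 0, 0],
  [0, 0, 0, 0, 0, 0, 0, 0, 0, 0, 0, 0, 0, 0, 0, 0, 0, 0, 0, 0, 8, 0, 0, 0],
  [0, 0, 0, 0, 0, 0, 0, 0, 0, 0, 0, 0, 0, 0, 0, 8, 0, 0, 0, 0, 0, 0, 0, 0],
  [0, 0, 0, 0, 0, 0, 0, 0, 0, 0, 0, 0, 0, 0, 8, 0, 0, 0, 0, 0, 0, 0, 0, 0],
  [0, 0, 0, 0, 0, 0, 0, 0, 0, 8, 0, 0, 0, 0, 0, 0, 0, 0, 0, 0, 0, 0, 0, 0],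
  [0, 0, 0, 0, 0, 0, 8, 0, 0, 0, 0, 0, 0, 0, 0, 0, 0, 0, 0, 0, 0, 0, 0, 0],
  [0, 0, 0, 0, 0, 0, 0, 0, 0, 0, 0, 0, 0, 0, 0, 0, 0, 0, 0, 8, 0, 0, 0, 0],
  [0, 0, 0, 0, 0, 0, 0, 0, 0, 0, 0, 0, 0, 0, 0, 0, 0, 0, 0, 0, 0, 8, 0, 0],
  [0, 0, 0, 0, 0, 0, 0, 0, 0, 0, 0, 0, 0, 0, 0, 0, 0, 0, 0, 0, 0, 0, 8, 0],
  [0, 0, 0, 0, 0, 0, 0, 0, 0, 0, 0, 0, 0, 0, 0, 0, 0, 8, 0, 0, 0, 0, 0, 0],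
  [0, 0, 0, 0, 8, 0, 0, 0, 0, 0, 0, 0, 0, 0, 0, 0, 0, 0, 0, 0, 0, 0, 0, 0],
  [0, 0, 0, 0, 0, 0, 0, 0, 0, 0, 0, 0, 8, 0, 0, 0, 0, 0, 0, 0, 0, 0, 0, 0],
  [0, 0, 8, 0, 0, 0, 0, 0, 0, 0, 0, 0, 0, 0, 0, 0, 0, 0, 0, 0, 0, 0, 0, 0],
  [0, 0, 0, 0, 0, 0, 0, 0, 0, 0, 0, 0, 0, 8, 0, 0, 0, 0, 0, 0, 0, 0, 0, 0]]

/-- matrix (times 8) -/
def rT : List (List ℤ) := [
  [0, 0, 0, 0, 0, 0, 0, 0, 8, 0, 0, 0, 0, 0, 0, 0, 0, 0, 0, 0, 0, 0, 0, 0],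
  [8, 0, 0, 0, 0, 0, 0, 0, 0, 0, 0, 0, 0, 0, 0, 0, 0, 0, 0, 0, 0, 0, 0, 0],
  [0, 0, 0, 0, 0, 0, 0, 0, 0, 0, 0, 0, 0, 0, 0, 0, 0, 8, 0, 0, 0, 0, 0, 0],
  [0, 0, 8, 0, 0, 0, 0, 0, 0, 0, 0, 0, 0, 0, 0, 0, 0, 0, 0, 0, 0, 0, 0, 0],
  [0, 0, 0, 0, 0, 0, 0, 0, 0, 0, 0, 0, 0, 0, 0, 8, 0, 0, 0, 0, 0, 0, 0, 0],
  [0, 0, 0, 0, 0, 0, 0, 0, 0, 0, 0, 8, 0, 0, 0, 0, 0, 0, 0, 0, 0, 0, 0, 0],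
  [0, 0, 0, 0, 0, 0, 0, 0, 0, 0, 0, 0, 0, 0, 8, 0, 0, 0, 0, 0, 0, 0, 0, 0],
  [0, 0, 0, 0, 0, 0, 0, 0, 0, 0, 0, 0, 0, 0, 0, 0, 0, 0, 0, 0, 0, 0, 8, 0],
  [0, 8, 0, 0, 0, 0, 0, 0, 0, 0, 0, 0, 0, 0, 0, 0, 0, 0, 0, 0, 0, 0, 0, 0],
  [0, 0, 0, 0, 0, 0, 0, 0, 0, 0, 0, 0, 0, 0, 0, 0, 0, 0, 8, 0, 0, 0, 0, 0],
  [0, 0, 0, 0, 0, 0, 8, 0, 0, 0, 0, 0, 0, 0, 0, 0, 0, 0, 0, 0, 0, 0, 0, 0],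
  [0, 0, 0, 0, 0, 0, 0, 0, 0, 0, 0, 0, 0, 0, 0, 0, 0, 0, 0, 0, 0, 8, 0, 0],
  [0, 0, 0, 0, 0, 0, 0, 0, 0, 0, 0, 0, 0, 0, 0, 0, 0, 0, 0, 0, 0, 0, 0, 8],
  [0, 0, 0, 0, 8, 0, 0, 0, 0, 0, 0, 0, 0, 0, 0, 0, 0, 0, 0, 0, 0, 0, 0, 0],
  [0, 0, 0, 0, 0, 0, 0, 0, 0, 0, 8, 0, 0, 0, 0, 0, 0, 0, 0, 0, 0, 0, 0, 0],
  [0, 0, 0, 0, 0, 0, 0, 0, 0, 0, 0, 0, 0, 8, 0, 0, 0, 0, 0, 0, 0, 0, 0, 0],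
  [0, 0, 0, 0, 0, 0, 0, 0, 0, 8, 0, 0, 0, 0, 0, 0, 0, 0, 0, 0, 0, 0, 0, 0],
  [0, 0, 0, 8, 0, 0, 0, 0, 0, 0, 0, 0, 0, 0, 0, 0, 0, 0, 0, 0, 0, 0, 0, 0],
  [0, 0, 0, 0, 0, 0, 0, 0, 0, 0, 0, 0, 0, 0, 0, 0, 8, 0, 0, 0, 0, 0, 0, 0],
  [0, 0, 0, 0, 0, 0, 0, 8, 0, 0, 0, 0, 0, 0, 0, 0, 0, 0, 0, 0, 0, 0, 0, 0],
  [0, 0, 0, 0, 0, 0, 0, 0, 0, 0, 0, 0, 8, 0, 0, 0, 0, 0, 0, 0, 0, 0, 0, 0],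
  [0, 0, 0, 0, 0, 8, 0, 0, 0, 0, 0, 0, 0, 0, 0, 0, 0, 0, 0, 0, 0, 0, 0, 0],
  [0, 0, 0, 0, 0, 0, 0, 0, 0, 0, 0, 0, 0, 0, 0, 0, 0, 0, 0, 8, 0, 0, 0, 0],
  [0, 0, 0, 0, 0, 0, 0, 0, 0, 0, 0, 0, 0, 0, 0, 0, 0, 0, 0, 0, 8, 0, 0, 0]]

/-- matrix (times 8) -/
def rG : List (List ℤ) := [
  [0, 0, 0, 0, 0, 0, -8, 0, 0, 0, 0, 0, 0, 0, 0, 0, 0, 0, 0, 0, 0, 0, 0, 0],
  [0, 0, 0, 0, 0, 0, 0, 0, 0, 0, -8, 0, 0, 0, 0, 0, 0, 0, 0, 0, 0, 0, 0, 0],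
  [0, 0, 0, 0, 0, 0, 0, 0, 0, 0, 0, 0, 0, 0, 0, 0, 0, 0, 0, 0, 8, 0, 0, 0],
  [0, 0, 0, 0, 0, 0, 0, 0, 0, 0, 0, 0, 0, 0, 0, 0, 0, 0, 0, 0, 0, 0, 0, 8],
  [0, 0, 8, 0, 0, 0, 0, 0, 0, 0, 0, 0, 0, 0, 0, 0, 0, 0, 0, 0, 0, 0, 0, 0],
  [0, 0, 0, 0, 0, 0, 0, 0, 0, 0, 0, 0, 0, 8, 0, 0, 0, 0, 0, 0, 0, 0, 0, 0],
  [0, 0, 0, 0, 0, 0, 0, 0, 0, 0, 0, 0, 0, 0, 0, 0, -8, 0, 0, 0, 0, 0, 0, 0],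
  [0, 0, 0, 0, 0, 0, 0, 0, 8, 0, 0, 0, 0, 0, 0, 0, 0, 0, 0, 0, 0, 0, 0, 0],
  [0, 0, 0, 0, 0, 0, 0, 0, 0, 0, 0, 0, 0, 0, -8, 0, 0, 0, 0, 0, 0, 0, 0, 0],
  [0, 0, 0, 0, 0, 0, 0, -8, 0, 0, 0, 0, 0, 0, 0, 0, 0, 0, 0, 0, 0, 0, 0, 0],
  [0, 0, 0, 0, 0, 0, 0, 0, 0, 0, 0, 0, 0, 0, 0, 0, 0, 0, -8, 0, 0, 0, 0, 0],
  [0, 0, 0, 0, 8, 0, 0, 0, 0, 0, 0, 0, 0, 0, 0, 0, 0, 0, 0, 0, 0, 0, 0, 0],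
  [0, 0, 0, 0, 0, 0, 0, 0, 0, 0, 0, 0, 0, 0, 0, 0, 0, 0, 0, 0, 0, -8, 0, 0],
  [0, 0, 0, 8, 0, 0, 0, 0, 0, 0, 0, 0, 0, 0, 0, 0, 0, 0, 0, 0, 0, 0, 0, 0],
  [0, 0, 0, 0, 0, 0, 0, 0, 0, -8, 0, 0, 0, 0, 0, 0, 0, 0, 0, 0, 0, 0, 0, 0],
  [0, 0, 0, 0, 0, 0, 0, 0, 0, 0, 0, 0, 0, 0, 0, 0, 0, 8, 0, 0, 0, 0, 0, 0],
  [0, 0, 0, 0, 0, 0, 0, 0, 0, 0, 0, 0, 0, 0, 0, 0, 0, 0, 0, -8, 0, 0, 0, 0],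
  [0, 0, 0, 0, 0, 0, 0, 0, 0, 0, 0, 0, 8, 0, 0, 0, 0, 0, 0, 0, 0, 0, 0, 0],
  [0, 0, 0, 0, 0, 0, 0, 0, 0, 0, 0, 0, 0, 0, 0, 0, 0, 0, 0, 0, 0, 0, -8, 0],
  [8, 0, 0, 0, 0, 0, 0, 0, 0, 0, 0, 0, 0, 0, 0, 0, 0, 0, 0, 0, 0, 0, 0, 0],
  [0, 0, 0, 0, 0, 0, 0, 0, 0, 0, 0, -8, 0, 0, 0, 0, 0, 0, 0, 0, 0, 0, 0, 0],
  [0, 0, 0, 0, 0, 0, 0, 0, 0, 0, 0, 0, 0, 0, 0, 8, 0, 0, 0, 0, 0, 0, 0, 0],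
  [0, 8, 0, 0, 0, 0, 0, 0, 0, 0, 0, 0, 0, 0, 0, 0, 0, 0, 0, 0, 0, 0, 0, 0],
  [0, 0, 0, 0, 0, -8, 0, 0, 0, 0, 0, 0, 0, 0, 0, 0, 0, 0, 0, 0, 0, 0, 0, 0]]

/-- matrix (times 8) -/
def rH : List (List ℤ) := [
  [0, 0, 0, 0, 0, 0, 0, 0, 0, 0, 0, 0, 0, 0, 0, 0, 0, 0, 0, 0, 0, -8, 0, 0],
  [0, 0, 0, 0, 0, 0, 0, 0, 0, 0, 0, -8, 0, 0, 0, 0, 0, 0, 0, 0, 0, 0, 0, 0],
  [0, 0, 0, 0, 0, 0, 0, 0, 0, 0, 0, 0, 0, 0, 0, 0, 0, 0, -8, 0, 0, 0, 0, 0],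
  [0, 0, 0, 0, 0, 0, 0, 0, 0, -8, 0, 0, 0, 0, 0, 0, 0, 0, 0, 0, 0, 0, 0, 0],
  [0, 0, 0, 0, 0, 0, 0, 0, 0, 0, 0, 0, 0, 0, 0, 0, 0, 0, 0, 0, 0, 0, 8, 0],
  [0, 0, 0, 0, 0, 0, 0, 0, 8, 0, 0, 0, 0, 0, 0, 0, 0, 0, 0, 0, 0, 0, 0, 0],
  [0, 0, 0, 0, 0, 0, 0, 0, 0, 0, 0, 0, -8, 0, 0, 0, 0, 0, 0, 0, 0, 0, 0, 0],
  [0, 0, 0, 0, 0, 0, 0, 0, 0, 0, 0, 0, 0, -8, 0, 0, 0, 0, 0, 0, 0, 0, 0, 0],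
  [0, 0, 0, 0, 0, -8, 0, 0, 0, 0, 0, 0, 0, 0, 0, 0, 0, 0, 0, 0, 0, 0, 0, 0],
  [0, 0, 0, 8, 0, 0, 0, 0, 0, 0, 0, 0, 0, 0, 0, 0, 0, 0, 0, 0, 0, 0, 0, 0],
  [0, 0, 0, 0, 0, 0, 0, 0, 0, 0, 0, 0, 0, 0, 0, 0, 0, 0, 0, 0, -8, 0, 0, 0],
  [0, 8, 0, 0, 0, 0, 0, 0, 0, 0, 0, 0, 0, 0, 0, 0, 0, 0, 0, 0, 0, 0, 0, 0],
  [0, 0, 0, 0, 0, 0, 8, 0, 0, 0, 0, 0, 0, 0, 0, 0, 0, 0, 0, 0, 0, 0, 0, 0],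
  [0, 0, 0, 0, 0, 0, 0, 8, 0, 0, 0, 0, 0, 0, 0, 0, 0, 0, 0, 0, 0, 0, 0, 0],
  [0, 0, 0, 0, 0, 0, 0, 0, 0, 0, 0, 0, 0, 0, 0, 0, 0, 0, 0, 0, 0, 0, 0, -8],
  [0, 0, 0, 0, 0, 0, 0, 0, 0, 0, 0, 0, 0, 0, 0, 0, 0, 0, 0, 8, 0, 0, 0, 0],
  [0, 0, 0, 0, 0, 0, 0, 0, 0, 0, 0, 0, 0, 0, 0, 0, 0, 8, 0, 0, 0, 0, 0, 0],
  [0, 0, 0, 0, 0, 0, 0, 0, 0, 0, 0, 0, 0, 0, 0, 0, -8, 0, 0, 0, 0, 0, 0, 0],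
  [0, 0, 8, 0, 0, 0, 0, 0, 0, 0, 0, 0, 0, 0, 0, 0, 0, 0, 0, 0, 0, 0, 0, 0],
  [0, 0, 0, 0, 0, 0, 0, 0, 0, 0, 0, 0, 0, 0, 0, -8, 0, 0, 0, 0, 0, 0, 0, 0],
  [0, 0, 0, 0, 0, 0, 0, 0, 0, 0, 8, 0, 0, 0, 0, 0, 0, 0, 0, 0, 0, 0, 0, 0],
  [8, 0, 0, 0, 0, 0, 0, 0, 0, 0, 0, 0, 0, 0, 0, 0, 0, 0, 0, 0, 0, 0, 0, 0],
  [0, 0, 0, 0, -8, 0, 0, 0, 0, 0, 0, 0, 0, 0, 0, 0, 0, 0, 0, 0, 0, 0, 0, 0],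
  [0, 0, 0, 0, 0, 0, 0, 0, 0, 0, 0, 0, 0, 0, 8, 0, 0, 0, 0, 0, 0, 0, 0, 0]]

/-- matrix (times 8) -/
def rN : List (List ℤ) := [
  [-2, 0, 0, -2, 0, 2, -2, 0, 2, 0, 2, 0, -2, 2, 0, 2, -2, -2, 2, 2, -2, 2, -2, 0],
  [0, -2, -2, 0, -2, 0, 0, 2, 0, 2, 0, 2, 0, 0, -2, -4, 0, 0, 0, 0, -4, 0, 0, 2],
  [2, 0, 0, 2, 0, 2, -2, 0, -2, 0, -2, 0, 2, 2, 0, 2, 2, -2, -2, 2, -2, -2, -2, 0],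
  [2, 0, 0, -2, 0, -2, 2, 0, 2, 0, -2, 0, -2, -2, 0, 2, -2, -2, -2, -2, -2, -2, -2, 0],
  [2, 0, 0, 2, 0, -2, 2, 0, 2, 0, -2, 0, 2, 2, 0, 2, -2, 2, 2, 2, -2, 2, 2, 0],
  [0, -2, 2, 0, -2, 0, 0, -2, 0, -2, 0, -2, 0, 0, -2, 0, 0, 4, 0, 0, 0, 0, -4, 2],
  [0, -2, 2, 0, -2, -4, -4, -2, 0, 2, 0, 2, 0, 0, 2, 0, 0, 0, 0, 0, 0, 0, 0, -2],
  [0, 2, -2, 0, -2, 0, 0, -2, 0, 2, 0, -2, 0, 0, -2, 0, 0, 0, -4, 0, 0, 4, 0, -2],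
  [0, -2, 2, 0, 2, 0, 0, 2, -4, 2, 0, -2, 0, 0, -2, 0, -4, 0, 0, 0, 0, 0, 0, -2],
  [4, 2, 2, 0, -2, 0, 0, 2, 0, -2, 4, 2, 0, 0, -2, 0, 0, 0, 0, 0, 0, 0, 0, -2],
  [0, 2, -2, 0, 2, -4, -4, 2, 0, -2, 0, -2, 0, 0, -2, 0, 0, 0, 0, 0, 0, 0, 0, 2],
  [2, 0, 0, 2, 0, 2, -2, 0, 2, 0, -2, 0, 2, -2, 0, -2, -2, -2, 2, -2, 2, 2, -2, 0],
  [0, 2, 2, 4, -2, 0, 0, 2, 0, 2, 0, -2, -4, 0, 2, 0, 0, 0, 0, 0, 0, 0, 0, 2],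
  [0, -2, -2, 4, 2, 0, 0, -2, 0, -2, 0, 2, -4, 0, -2, 0, 0, 0, 0, 0, 0, 0, 0, -2],
  [-2, 0, 0, 2, 0, -2, 2, 0, -2, 0, 2, 0, 2, -2, 0, 2, 2, -2, 2, -2, -2, 2, -2, 0],
  [0, -2, -2, 0, -2, 0, 0, 2, 0, -2, 0, -2, 0, 4, 2, 0, 0, 0, 0, -4, 0, 0, 0, -2],
  [2, 0, 0, -2, 0, 2, -2, 0, -2, 0, -2, 0, -2, -2, 0, 2, 2, 2, 2, -2, -2, 2, 2, 0],
  [0, -2, -2, 0, -2, 0, 0, 2, 0, 2, 0, 2, 0, 0, -2, 4, 0, 0, 0, 0, 4, 0, 0, 2],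
  [2, 0, 0, -2, 0, -2, 2, 0, -2, 0, -2, 0, -2, 2, 0, -2, 2, -2, 2, 2, 2, 2, -2, 0],
  [0, 2, -2, 0, -2, 0, 0, -2, 0, 2, 0, -2, 0, 0, -2, 0, 0, 0, 4, 0, 0, -4, 0, -2],
  [-4, 2, 2, 0, -2, 0, 0, 2, 0, -2, -4, 2, 0, 0, -2, 0, 0, 0, 0, 0, 0, 0, 0, -2],
  [0, 2, 2, 0, 2, 0, 0, -2, 0, 2, 0, 2, 0, 4, -2, 0, 0, 0, 0, -4, 0, 0, 0, 2],
  [0, 2, -2, 0, -2, 0, 0, -2, -4, -2, 0, 2, 0, 0, 2, 0, -4, 0, 0, 0, 0, 0, 0, 2],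
  [0, -2, 2, 0, -2, 0, 0, -2, 0, -2, 0, -2, 0, 0, -2, 0, 0, -4, 0, 0, 0, 0, 4, 2]]

/-- fixed vectors and dual vectors of `y0` -/
def vwY : List (List ℤ × List ℤ) := [
  ([4, 4, 0, 0, 0, 0, 0, 0, 0, 0, 0, 0, 0, 0, 0, 0, 0, 0, 0, 0, 0, 0, 0, 0],
   [4, 2, 2, 2, 2, 2, 0, 2, 0, 2, 2, 0, 0, 2, 2, 0, 0, 2, 0, 2, 0, 0, 0, 4]),
  ([4, 0, 0, 0, 0, 0, 0, 0, 4, 0, 0, 0, 0, 0, 0, 0, 0, 0, 0, 0, 0, 0, 0, 0],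
   [3, 1, 1, 1, 1, 1, -1, 1, -1, 1, 1, -1, -1, 1, 1, -1, -1, 1, -1, 1, -1, -1, -1, -1]),
  ([4, 0, 0, 0, 0, 0, 0, 0, -4, 0, 0, 0, 0, 0, 0, 0, 0, 0, 0, 0, 0, 0, 0, 0],
   [1, 3, 1, 1, 1, 1, 3, -1, 3, -1, 1, 3, 1, -1, 1, 3, 1, -1, 3, -1, 3, 1, 1, 1]),
  ([2, 0, 0, 0, 0, 0, 2, 0, 0, 0, 0, 0, 2, 0, 0, 2, 2, 2, 0, 2, 0, 2, 0, 0],
   [4, 0, 0, 0, 0, 0, 0, 0, 0, 0, 0, 0, 0, 0, 0, 0, 0, 0, 0, 0, 0, 0, 0, 4]),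
  ([0, 2, 2, 0, 2, 0, 0, 0, 0, 0, 2, 2, 0, 0, 0, 0, 0, 0, 2, 0, 2, 0, 2, 0],
   [0, 4, 0, 0, 0, 0, 0, 0, 0, 0, 0, 0, 0, 0, 0, 0, 0, 0, 0, 0, 0, 0, 0, -4]),
  ([3, 1, 1, 1, 1, 1, -1, 1, 1, 1, 1, 1, -1, 1, 1, -1, -1, -1, 1, -1, 1, -1, 1, 1],
   [0, 0, 0, 0, 0, 0, 0, 0, 0, 0, 0, 0, 0, 0, 0, 0, 0, 0, 0, 0, 0, 0, 0, 8])]

/-- fixed vectors and dual vectors of `t0` -/
def vwT : List (List ℤ × List ℤ) := [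
  ([2, 2, 2, 2, 0, 2, 0, 0, 2, 2, 0, 2, 0, 0, 0, 0, 2, 2, 2, 0, 0, 2, 0, 0],
   [1, 1, 1, 1, 1, -1, 1, -1, 1, 1, -1, -1, 1, 1, -1, -1, 1, -1, 1, -1, -1, -1, -1, 3]),
  ([2, 2, 2, 2, 0, 0, 2, 2, 2, 0, 2, 0, 0, 0, 2, 0, 0, 2, 0, 2, 0, 0, 2, 0],
   [-1, 1, 1, 1, 1, 1, -1, 1, -1, 1, 1, -1, -1, 1, 1, -1, -1, 1, -1, 1, -1, -1, -1, 3]),
  ([2, 2, 2, 2, 0, 0, -2, -2, 2, 0, -2, 0, 0, 0, -2, 0, 0, 2, 0, -2, 0, 0, -2, 0],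
   [4, 0, -4, -2, 0, -4, 2, -2, 2, 0, -4, -2, 0, -2, -4, 0, 0, -2, 0, -4, 0, 0, -2, 0]),
  ([2, 2, 2, 2, -2, 0, 0, 0, 2, 0, 0, 0, -2, -2, 0, -2, 0, 2, 0, 0, -2, 0, 0, -2],
   [-1, -3, 1, -1, -3, 5, -3, -1, -3, -3, 1, 1, -1, -1, 1, -1, -1, -1, -1, 1, -1, -1, 1, 3]),
  ([2, 2, 0, 0, 2, 2, 2, 0, 2, 0, 2, 2, 0, 2, 2, 2, 0, 0, 0, 0, 0, 2, 0, 0],
   [2, -2, 2, 0, -2, 4, 0, -2, 0, -2, 0, 2, 2, 0, 0, 0, 2, -2, 2, 0, 0, 0, 2, 0]),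
  ([2, 2, 0, 0, 2, -2, -2, 0, 2, 0, -2, -2, 0, 2, -2, 2, 0, 0, 0, 0, 0, -2, 0, 0],
   [0, -2, -2, -2, -2, 2, 0, -2, 0, -2, -2, 0, 0, -2, -2, 0, 0, -2, 0, -2, 0, 0, 0, 4]),
  ([2, 2, 0, 0, 0, 2, 0, 2, 2, 0, 0, 2, 2, 0, 0, 0, 0, 0, 0, 2, 2, 2, 2, 2],
   [2, 0, 0, -2, 0, -2, 0, 0, 0, 0, -2, -2, -2, -2, -2, 0, -2, 0, -2, -2, 0, 0, -2, 4]),
  ([3, 3, 1, 1, 1, 1, -1, 1, 3, -1, -1, 1, -1, 1, -1, 1, -1, 1, -1, 1, -1, 1, 1, -1],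
   [0, 0, 0, 0, 0, 0, 0, 0, 0, 0, 0, 0, 0, 0, 0, 0, 0, 0, 0, 0, 0, 0, 0, 8])]

/-- a vector fixed by `x0 y0` -/
def fXY : List ℤ := [0, 0, 2, 2, 0, 2, 0, 0, 0, 0, 0, 0, 0, -2, -2, 2, 0, 0, -2, -2, 0, 0, 0, 0]

/-- a dual vector -/
def wXY : List ℤ := [0, 0, 4, 0, 0, 0, 0, 0, 0, 0, 0, 0, 0, 0, 0, 0, 0, 0, 0, 0, 0, 0, 0, -4]

theorem okX : Ok rX (tr rX) := Cfsg.Agent.CoOneType.CoFast.ok_of_okZ (by decide +kernel)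

theorem okY : Ok rY (tr rY) := Cfsg.Agent.CoOneType.CoFast.ok_of_okZ (by decide +kernel)

theorem okT : Ok rT (tr rT) := Cfsg.Agent.CoOneType.CoFast.ok_of_okZ (by decide +kernel)

theorem okG : Ok rG (tr rG) := Cfsg.Agent.CoOneType.CoFast.ok_of_okZ (by decide +kernel)

theorem okH : Ok rH (tr rH) := Cfsg.Agent.CoOneType.CoFast.ok_of_okZ (by decide +kernel)

theorem okN : Ok rN (tr rN) := Cfsg.Agent.CoOneType.CoFast.ok_of_okZ (by decide +kernel)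

/-- the matrices -/
def M : ℕ → List (List ℤ)
  | 0 => rX
  | 1 => rY
  | 2 => rT
  | 3 => rG
  | 4 => rH
  | _ => rN

theorem okM (i : ℕ) : Ok (M i) (tr (M i)) := by
  unfold M
  split
  · exact okX
  · exact okY
  · exact okT
  · exact okG
  · exact okH
  · exact okN

/-- the elements -/
noncomputable def e (i : ℕ) : Co0 := Cfsg.Agent.SporadicStructure.Co0Matrix.mk (okM i)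

theorem rep (i : ℕ) : Rep (e i) (M i) := rep_mk (okM i)

/-- order 7, fixed rank 0 -/
noncomputable abbrev x0 : Co0 := e 0
/-- order 7, fixed rank 6 -/
noncomputable abbrev y0 : Co0 := e 1
/-- order 3, fixed rank 8 -/
noncomputable abbrev t0 : Co0 := e 2
/-- order 8 -/
noncomputable abbrev g0 : Co0 := e 3
/-- order 4 -/
noncomputable abbrev h0 : Co0 := e 4
/-- conjugating element -/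
noncomputable abbrev n0 : Co0 := e 5

/-- Equality of words in `Co0`. -/
theorem word_eq {w w' : List ℕ} (h : eqL (foldZ M w betaL) (foldZ M w' betaL) = true) :
    (w.map e).prod = (w'.map e).prod := by
  rw [foldZ_eq, foldZ_eq] at h
  have h1 := (fold_spec rep w (l := betaL) (v := beta) (by decide) rfl).2
  have h2 := (fold_spec rep w' (l := betaL) (v := beta) (by decide) rfl).2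
  rw [eqL_eq h, ← h2] at h1
  exact eq_of_fix (Subtype.ext h1)

/-- A word equal to `-1`. -/
theorem word_neg {w : List ℕ} (h : eqL (foldZ M w betaL) negbetaL = true) :
    (w.map e).prod = Co0Basic.negCo0 := by
  rw [foldZ_eq] at h
  exact eq_neg_of_negB rep h

theorem x0_pow : x0 ^ 7 = 1 := by
  have h := word_eq (w := List.replicate 7 0) (w' := []) (by decide +kernel)
  rwa [List.map_replicate, List.prod_replicate, List.map_nil, List.prod_nil] at h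

theorem y0_pow : y0 ^ 7 = 1 := by
  have h := word_eq (w := List.replicate 7 1) (w' := []) (by decide +kernel)
  rwa [List.map_replicate, List.prod_replicate, List.map_nil, List.prod_nil] at h

theorem t0_pow : t0 ^ 3 = 1 := by
  have h := word_eq (w := List.replicate 3 2) (w' := []) (by decide +kernel)
  rwa [List.map_replicate, List.prod_replicate, List.map_nil, List.prod_nil] at h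

theorem xy : x0 * y0 = y0 * x0 := by
  have h := word_eq (w := [0, 1]) (w' := [1, 0]) (by decide +kernel)
  simpa only [List.map_cons, List.map_nil, List.prod_cons, List.prod_nil, mul_one] using h

theorem tx : t0 * x0 = x0 * (x0 * t0) := by
  have h := word_eq (w := [2, 0]) (w' := [0, 0, 2]) (by decide +kernel)
  simpa only [List.map_cons, List.map_nil, List.prod_cons, List.prod_nil, mul_one] using h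

theorem ty : t0 * y0 = y0 * t0 := by
  have h := word_eq (w := [2, 1]) (w' := [1, 2]) (by decide +kernel)
  simpa only [List.map_cons, List.map_nil, List.prod_cons, List.prod_nil, mul_one] using h

theorem gx : g0 * x0 = x0 * g0 := by
  have h := word_eq (w := [3, 0]) (w' := [0, 3]) (by decide +kernel)
  simpa only [List.map_cons, List.map_nil, List.prod_cons, List.prod_nil, mul_one] using h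

theorem gt : g0 * t0 = t0 * g0 := by
  have h := word_eq (w := [3, 2]) (w' := [2, 3]) (by decide +kernel)
  simpa only [List.map_cons, List.map_nil, List.prod_cons, List.prod_nil, mul_one] using h

theorem hx : h0 * x0 = x0 * h0 := by
  have h := word_eq (w := [4, 0]) (w' := [0, 4]) (by decide +kernel)
  simpa only [List.map_cons, List.map_nil, List.prod_cons, List.prod_nil, mul_one] using h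

theorem ht : h0 * t0 = t0 * h0 := by
  have h := word_eq (w := [4, 2]) (w' := [2, 4]) (by decide +kernel)
  simpa only [List.map_cons, List.map_nil, List.prod_cons, List.prod_nil, mul_one] using h

theorem ghg : g0 * (h0 * g0) = h0 := by
  have h := word_eq (w := [3, 4, 3]) (w' := [4]) (by decide +kernel)
  simpa only [List.map_cons, List.map_nil, List.prod_cons, List.prod_nil, mul_one] using h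

theorem nx : n0 * x0 = x0 * (y0 * (y0 * (y0 * n0))) := by
  have h := word_eq (w := [5, 0]) (w' := [0, 1, 1, 1, 5]) (by decide +kernel)
  simpa only [List.map_cons, List.map_nil, List.prod_cons, List.prod_nil, mul_one] using h

theorem g0_pow : g0 ^ 4 = Co0Basic.negCo0 := by
  have h := word_neg (w := List.replicate 4 3) (by decide +kernel)
  rwa [List.map_replicate, List.prod_replicate] at h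

theorem h0_sq : h0 * h0 = Co0Basic.negCo0 := by
  have h := word_neg (w := [4, 4]) (by decide +kernel)
  simpa only [List.map_cons, List.map_nil, List.prod_cons, List.prod_nil, mul_one] using h

theorem gh_sq : (g0 * h0) * (g0 * h0) = Co0Basic.negCo0 := by
  have h := word_neg (w := [3, 4, 3, 4]) (by decide +kernel)
  simpa only [List.map_cons, List.map_nil, List.prod_cons, List.prod_nil, mul_one, mul_assoc] using h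

theorem hgh : h0 * g0 * h0⁻¹ = g0⁻¹ := by
  rw [eq_inv_iff_mul_eq_one]
  have h := ghg
  calc h0 * g0 * h0⁻¹ * g0 = (g0⁻¹ * (g0 * (h0 * g0))) * h0⁻¹ * g0 := by group
    _ = g0⁻¹ * h0 * h0⁻¹ * g0 := by rw [h]
    _ = 1 := by group

theorem txt : t0 * x0 * t0⁻¹ = x0 ^ 2 := by
  rw [mul_inv_eq_iff_eq_mul, tx, pow_two, mul_assoc]

theorem nxn : n0 * x0 * n0⁻¹ = x0 * y0 ^ 3 := by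
  rw [mul_inv_eq_iff_eq_mul, nx]
  simp only [pow_succ, pow_zero, one_mul, mul_assoc]

theorem spanX : Cfsg.Agent.MFive.FixN.spanB 7 rX [] = true := by decide +kernel

theorem fr_x0 : fr (QuotientGroup.mk x0 : Co1) = 1 := by
  have h := Cfsg.Agent.MFive.FixN.card_fix (n := 7) (by decide) (rep 0) (vw := []) rfl rfl rfl spanX
  rwa [List.length_nil, pow_zero] at h

theorem latY : latB vwY = true := by decide +kernel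

theorem fixY : fixB rY vwY = true := by decide +kernel

theorem dualY : dualB vwY = true := by decide +kernel

theorem spanY : Cfsg.Agent.MFive.FixN.spanB 7 rY vwY = true := by decide +kernel

theorem fr_y0 : fr (QuotientGroup.mk y0 : Co1) = 2 ^ 6 :=
  Cfsg.Agent.MFive.FixN.card_fix (n := 7) (by decide) (rep 1) latY fixY dualY spanY

theorem latT : latB vwT = true := by decide +kernel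

theorem fixT : fixB rT vwT = true := by decide +kernel

theorem dualT : dualB vwT = true := by decide +kernel

theorem spanT : Cfsg.Agent.MFive.FixN.spanB 3 rT vwT = true := by decide +kernel

theorem fr_t0 : fr (QuotientGroup.mk t0 : Co1) = 2 ^ 8 :=
  Cfsg.Agent.MFive.FixN.card_fix (n := 3) (by decide) (rep 2) latT fixT dualT spanT

theorem fXY_leech : leechB fXY = true := by decide +kernel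

/-- the lattice vector -/
noncomputable def fxy : leechLattice := el fXY

theorem fXY_fix : eqL (foldZ M [0, 1] fXY) fXY = true := by decide +kernel

theorem fxy_fix : (x0 * y0) • cl fxy = cl fxy := by
  rw [smul_cl]
  congr 1
  apply Subtype.ext
  have h1 := (fold_spec rep [0, 1] (l := fXY) (v := fxy) (by decide) (el_coe fXY_leech)).2
  have h2 := fXY_fix
  rw [foldZ_eq] at h2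
  rw [eqL_eq h2] at h1
  have h3 : (([0, 1] : List ℕ).map e).prod = x0 * y0 := by
    simp only [List.map_cons, List.map_nil, List.prod_cons, List.prod_nil, mul_one]
  rw [h3] at h1
  exact h1.trans (el_coe fXY_leech).symm

/-- the zero vector -/
def zL : List ℤ := List.replicate 24 0

theorem fxy_ne : cl fxy ≠ 0 := by
  have h0 : leechB zL = true := by decide +kernel
  have h1 := cl_el_ne fXY_leech h0 (show leechB wXY = true by decide +kernel) (by decide +kernel)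
  intro h
  apply h1
  rw [show cl (el fXY) = 0 from h]
  symm
  have h2 : el zL = 0 := by
    apply Subtype.ext
    rw [el_coe h0]
    funext p
    show zL.getD (GolayBase.idx p) 0 = 0
    rw [zL]
    have hp := GolayBase.idx_lt p
    generalize GolayBase.idx p = i at hp ⊢
    rw [List.getD_eq_getElem _ _ (by rw [List.length_replicate]; exact hp), List.getElem_replicate]
  rw [h2, map_zero]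

end Cfsg.Agent.BpSevenCo.Data
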